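import Mathlib
import Groth.Agent.Lib.Helper19.SmLocSt3
import Groth.Agent.Lib.Helper19.FlatLocQ3
import Groth.Agent.Lib.Helper19.StLib2

/-!
# Field points of one-point algebraic stacks (helper19)
-/

set_option autoImplicit false
set_option backward.isDefEq.respectTransparency false

universe u

open CategoryTheory CategoryTheory.Limits AlgebraicGeometry

namespace Groth.Agent.Helper19.ResG

open FibCat AlgSt Stk Groth.Agent.Helper19.FibLib Groth.Agent.Helper19.StLib
  Groth.Agent.Helper19.AlgP Groth.Agent.Helper19.SpProps Groth.Agent.Helper19.SpDict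
  Groth.Agent.Helper19.PshSt Groth.Agent.Helper19.LocQCore Groth.Agent.Helper16.AS
  Groth.Agent.Helper15 Groth.Agent.Helper19.StPts Groth.Agent.Helper19.OpenSub
  Groth.Agent.Helper19.SrcLoc Groth.Agent.Helper19.LocQGen Groth.Agent.Helper19.ChartOver
  Groth.Agent.Helper19.EssImg Groth.Agent.Helper19.ImmLib Groth.Agent.Helper19.ProdAlg
  Groth.Agent.Helper19.SmLocSt Groth.Agent.Helper19.SmoothST Groth.Agent.Helper19.CancelLib
  Groth.Agent.Helper19.FlatST

variable {S : Scheme.{u}} {𝒵 : AlgSt.Cat S}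

theorem stableAlg_flat : StableAlg (S := S) (AlgSp.LocP @Flat) :=
  stableAlg_locP Groth.Agent.Helper15.goodP_flat srcEtLoc_flat

theorem compAlg_flat : CompAlg (S := S) (AlgSp.LocP @Flat) :=
  compAlg_locP Groth.Agent.Helper15.goodP_flat srcEtLoc_flat

/-- the identity functor is smooth. -/
theorem repByAlgSpWith_smooth_id (𝒲 : AlgSt.Cat S) :
    RepByAlgSpWith (AlgSp.LocP @Smooth) (BasedFunctor.id 𝒲) := by
  refine Groth.Agent.Helper19.PshSt.repByAlgSpWith_of_equiv _ (fun U => ?_) _ (isEquivOver_id _)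
  rw [← (AlgSp.yon S).map_id]
  exact locP_yon_map_of Groth.Agent.Helper15.goodP_smooth srcEtLoc_smooth (𝟙 U) (by
    change Smooth (𝟙 U.left)
    infer_instance)

/-- every functor from an algebraic stack to the spectrum of a field is flat. -/
theorem locQ_flat_to_field {𝒲₁ : AlgSt.Cat S} (h𝒲₁ : IsAlgStack Scheme.fppfPrecoverage 𝒲₁)
    (k : Type u) [Field k] (a : Spec (CommRingCat.of k) ⟶ S)
    (p : 𝒲₁ ⥤ᵇ overCat (Over.mk a)) : LocQ (AlgSp.LocP @Flat) p := by
  obtain ⟨W, x, hx, hxs⟩ := h𝒲₁.atlas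
  obtain ⟨h, ⟨θ⟩⟩ := exists_overMap_iso (BasedFunctor.comp x p)
  refine ⟨W, Over.mk a, x, BasedFunctor.id _, h, θ ≪≫ eqToIso (BasedFunctor.comp_id _).symm, hx, hxs,
    repByAlgSpWith_smooth_id _, ?_⟩
  refine locP_yon_map_of Groth.Agent.Helper15.goodP_flat srcEtLoc_flat h ?_
  change Flat h.left
  have h1 : Subsingleton ↥(Spec (CommRingCat.of k)) :=
    inferInstanceAs (Subsingleton (PrimeSpectrum k))
  have h2 : Subsingleton ↥(Over.mk a).left := h1
  have h3 : IsIntegral (Over.mk a).left := inferInstanceAs (IsIntegral (Spec (CommRingCat.of k)))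
  infer_instance

theorem subsingleton_points_field (k : Type u) [Field k] (a : Spec (CommRingCat.of k) ⟶ S) :
    Subsingleton (Points (overCat (Over.mk a))) := by
  have h1 : Subsingleton ↥(Over.mk a).left := inferInstanceAs (Subsingleton (PrimeSpectrum k))
  exact (chartPt (Over.mk a)).symm.injective.subsingleton

theorem nonempty_points_field (k : Type u) [Field k] (a : Spec (CommRingCat.of k) ⟶ S) :
    Nonempty (Points (overCat (Over.mk a))) := by
  have h1 : Nonempty ↥(Over.mk a).left := inferInstanceAs (Nonempty (PrimeSpectrum k))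
  exact h1.map (chartPt (Over.mk a))

/-- S16804. -/
theorem surjective_flat_fieldPt (h𝒵 : IsAlgStack Scheme.fppfPrecoverage 𝒵)
    (k : Type u) [Field k] (a : Spec (CommRingCat.of k) ⟶ S)
    (z : overCat (Over.mk a) ⥤ᵇ 𝒵)
    (hzs : RepByAlgSpWith AlgSp.IsSurjectiveMor z) (hzf : RepByAlgSpWith (AlgSp.LocP @Flat) z)
    (k' : Type u) [Field k'] (a' : Spec (CommRingCat.of k') ⟶ S)
    (z' : overCat (Over.mk a') ⥤ᵇ 𝒵) :
    RepByAlgSpWith AlgSp.IsSurjectiveMor z' ∧ RepByAlgSpWith (AlgSp.LocP @Flat) z' := by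
  have hU := isAlgStack_overCat (S := S) (Over.mk a)
  have hU' := isAlgStack_overCat (S := S) (Over.mk a')
  have hz'1 : RepByAlgSp1 z' := (Groth.Agent.Helper19.DiagAlgSp.repByAlgSp1_diag_iff 𝒵).1 h𝒵.diag _ z'
  have hsz : IsSurjective z := isSurjective_of_repByAlgSpWith h𝒵.isStack.1 z hzs
  have hsub := subsingleton_points_field k a
  obtain ⟨p0'⟩ := nonempty_points_field k' a'
  have hsz' : IsSurjective z' := by
    intro w
    obtain ⟨p, rfl⟩ := hsz w
    obtain ⟨p', hp'⟩ := hsz (Points.map z' p0')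
    exact ⟨p0', by rw [← hp', Subsingleton.elim p' p]⟩
  refine ⟨repByAlgSpWith_of_isSurjective hU'.isStack.1 h𝒵.isStack.1 z' hz'1 hsz', ?_⟩
  have h𝒲₁ : IsAlgStack Scheme.fppfPrecoverage (fp z z') :=
    isAlgStack_fp h𝒵.isStack h𝒵.diag hU hU' z z'
  have hzL : LocQ (AlgSp.LocP @Flat) z := locQ_of_repByAlgSpWith isSmoothLocalST_flat h𝒵 z hzf
  have hp : LocQ (AlgSp.LocP @Flat) (fpFst z z') := locQ_flat_to_field h𝒲₁ k a _
  have hL : LocQ (AlgSp.LocP @Flat) z' := locQ_flat_of_fpFst hU' h𝒵 hU z' z hzL hsz hp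
  exact repByAlgSpWith_of_locQ isSmoothLocalST_flat stableAlg_flat z' hz'1 hL

end Groth.Agent.Helper19.ResG
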